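import Groth.Prelude.Def_CInt
import Groth.Agent.AlgSpDec.SchDenseFacts
import Groth.Agent.FlatLocus.Basic
import Groth.Agent.S17727
import Mathlib

/-! # Flat points of morphisms which are isomorphisms over an open -/

universe u

open CategoryTheory Limits AlgebraicGeometry

set_option backward.isDefEq.respectTransparency false
set_option backward.isDefEq.respectTransparency.types false

namespace Groth.Agent.FlatBirLib

open Groth.Agent.AlgSpDec.SchDenseFacts

variable {X S : Scheme.{u}}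

/-- Preimages of schematically dense opens under flat maps, locally Noetherian target. -/
theorem preimage_of_flat {Y : Scheme.{u}} [IsLocallyNoetherian X] (f : Y ⟶ X) [Flat f] (U : X.Opens)
    (hU : CInt.IsSchematicallyDense U) : CInt.IsSchematicallyDense (f ⁻¹ᵁ U) :=
  preimage_of_flat_qc f U hU fun W hW => isCompact_inf_of_quasiCompact U W hW

/-- Schematic density restricts to opens. -/
theorem restrict_open (V : X.Opens) {U : X.Opens} (hU : CInt.IsSchematicallyDense U) :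
    CInt.IsSchematicallyDense (V.ι ⁻¹ᵁ U) := by
  rw [SchDenseLib.iff_eq_zero] at hU ⊢
  intro O s hs
  have h2 : V.ι ''ᵁ O ⊓ U ≤ V.ι ''ᵁ (O ⊓ V.ι ⁻¹ᵁ U) := by
    rintro p ⟨⟨q, hq, rfl⟩, hp⟩
    exact ⟨q, ⟨hq, hp⟩, rfl⟩
  have hs' : X.presheaf.map (V.ι.opensFunctor.map (homOfLE (inf_le_left : O ⊓ V.ι ⁻¹ᵁ U ≤ O))).op s = 0 := hs
  exact hU (V.ι ''ᵁ O) s (SchDenseLib.map_eq_zero_of_le (X := X) (V := V.ι ''ᵁ O) s (V.ι.opensFunctor.map (homOfLE inf_le_left)).le h2 hs')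

/-- A section shows that the open is schematically dense in the base. -/
theorem dense_of_section (f : X ⟶ S) (U : S.Opens) (hd : CInt.IsSchematicallyDense (f ⁻¹ᵁ U))
    (σ : S ⟶ X) (hσ : σ ≫ f = 𝟙 S) : CInt.IsSchematicallyDense U := by
  rw [SchDenseLib.iff_eq_zero] at hd ⊢
  intro O s hs
  have h0 : f.app O s = 0 := by
    refine hd (f ⁻¹ᵁ O) _ ?_
    have h1 := congrArg (fun k => k.hom s) (f.naturality (homOfLE (inf_le_left : O ⊓ U ≤ O)).op)
    simp only [CommRingCat.comp_apply, CommRingCat.hom_comp, RingHom.comp_apply] at h1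
    exact h1.symm.trans ((congrArg (f.app (O ⊓ U)).hom hs).trans (map_zero _))
  have hiso : IsIso ((σ ≫ f).app O) := by
    rw [Scheme.Hom.congr_app hσ O]
    infer_instance
  refine ((ConcreteCategory.isIso_iff_bijective _).1 hiso).1 ?_
  rw [map_zero]
  show (f.app O ≫ σ.app _) s = 0
  rw [CommRingCat.comp_apply, h0, map_zero]

/-- Two maps into `f ⁻¹ U` agreeing after `f` are equal if `f` is an isomorphism over `U`. -/
theorem eq_of_comp_eq (f : X ⟶ S) (U : S.Opens) (hiso : IsIso (f ∣_ U)) {T : Scheme.{u}} (a b : T ⟶ X)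
    (ha : ∀ t, f (a t) ∈ U) (h : a ≫ f = b ≫ f) : a = b := by
  have hb : ∀ t, f (b t) ∈ U := fun t => by
    rw [← Scheme.Hom.comp_apply, ← h, Scheme.Hom.comp_apply]; exact ha t
  have hra : Set.range a ⊆ Set.range (f ⁻¹ᵁ U).ι := by
    rw [Scheme.Opens.range_ι]; rintro _ ⟨t, rfl⟩; exact ha t
  have hrb : Set.range b ⊆ Set.range (f ⁻¹ᵁ U).ι := by
    rw [Scheme.Opens.range_ι]; rintro _ ⟨t, rfl⟩; exact hb t
  rw [← IsOpenImmersion.lift_fac _ a hra, ← IsOpenImmersion.lift_fac _ b hrb]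
  congr 1
  rw [← cancel_mono (f ∣_ U ≫ U.ι), morphismRestrict_ι, IsOpenImmersion.lift_fac_assoc,
    IsOpenImmersion.lift_fac_assoc, h]

set_option maxHeartbeats 800000 in
/-- At a flat point a morphism which is an isomorphism over `U` is an open immersion. -/
theorem exists_isOpenImmersion_of_flat [IsLocallyNoetherian S] (f : X ⟶ S) [LocallyOfFiniteType f]
    (U : S.Opens) (hiso : IsIso (f ∣_ U)) (hdense : CInt.IsSchematicallyDense (f ⁻¹ᵁ U))
    (x : X) (hx : (f.stalkMap x).hom.Flat) :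
    ∃ W : X.Opens, x ∈ W ∧ IsOpenImmersion (W.ι ≫ f) := by
  haveI : IsLocallyNoetherian X := LocallyOfFiniteType.isLocallyNoetherian f
  obtain ⟨_, ⟨(W : X.Opens), hW, rfl⟩, hxW, hWle⟩ := X.isBasis_affineOpens.exists_subset_of_mem_open
    (show x ∈ {y : X | (f.stalkMap y).hom.Flat} from hx) (FlatLocus.isOpen_flat_locus f)
  haveI : IsAffine W := hW
  refine ⟨W, hxW, ?_⟩
  let g : W.toScheme ⟶ S := W.ι ≫ f
  haveI : Flat g := by
    refine Flat.iff_flat_stalkMap g |>.2 fun w => ?_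
    show ((W.ι ≫ f).stalkMap w).hom.Flat
    rw [Scheme.Hom.stalkMap_comp]
    exact (FlatLocus.flat_comp_isIso _ _).2 (hWle w.2)
  haveI : IsSeparated g := by
    haveI : IsSeparated (g ≫ terminal.from S) := by
      rw [terminal.comp_from]
      exact Scheme.IsSeparated.isSeparated_terminal_from
    exact IsSeparated.of_comp g (terminal.from S)
  haveI : IsLocallyNoetherian W.toScheme := isLocallyNoetherian_of_isOpenImmersion W.ι
  have hO : CInt.IsSchematicallyDense (g ⁻¹ᵁ U) := by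
    have h0 : CInt.IsSchematicallyDense (W.ι ⁻¹ᵁ (f ⁻¹ᵁ U)) := preimage_of_flat W.ι (f ⁻¹ᵁ U) hdense
    rw [← Scheme.Hom.comp_preimage] at h0
    exact h0
  haveI : IsLocallyNoetherian (pullback g g) := LocallyOfFiniteType.isLocallyNoetherian (pullback.fst g g)
  let O₂ : (pullback g g).Opens := pullback.fst g g ⁻¹ᵁ (g ⁻¹ᵁ U)
  have hO₂ : CInt.IsSchematicallyDense O₂ := preimage_of_flat _ _ hO
  have heq : O₂.ι ≫ pullback.fst g g = O₂.ι ≫ pullback.snd g g := by
    rw [← cancel_mono W.ι]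
    have hmem : ∀ t : O₂.toScheme, f (W.ι (pullback.fst g g (O₂.ι t))) ∈ U := fun t => t.2
    refine eq_of_comp_eq f U hiso _ _ (fun t => ?_) ?_
    · simp only [Scheme.Hom.comp_apply]
      exact hmem t
    simp only [Category.assoc]
    exact congrArg (O₂.ι ≫ ·) pullback.condition
  have hfac : (O₂.ι ≫ pullback.fst g g) ≫ pullback.diagonal g = O₂.ι := by
    apply pullback.hom_ext
    · simp
    · rw [Category.assoc, pullback.diagonal_snd, Category.comp_id]
      exact heq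
  have hker : (pullback.diagonal g).ker = ⊥ := by
    have h1 := Scheme.Hom.le_ker_comp (O₂.ι ≫ pullback.fst g g) (pullback.diagonal g)
    rw [hfac, (iff_ker_eq_bot O₂).1 hO₂] at h1
    exact le_bot_iff.1 h1
  haveI : IsIso (pullback.diagonal g) := IsClosedImmersion.isIso_iff_ker_eq_bot.2 hker
  haveI : Mono g := ⟨fun {T} a b hab => by
    have h1 : (pullback.lift a b hab ≫ inv (pullback.diagonal g)) ≫ pullback.diagonal g =
        pullback.lift a b hab := by simp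
    have h2 := congrArg (· ≫ pullback.fst g g) h1
    have h3 := congrArg (· ≫ pullback.snd g g) h1
    simp only [Category.assoc, pullback.diagonal_fst, pullback.diagonal_snd, Category.comp_id,
      pullback.lift_fst, pullback.lift_snd] at h2 h3
    exact h2.symm.trans h3⟩
  exact IsOpenImmersion.of_flat_of_mono g

/-- Etale points are flat points. -/
theorem flat_of_etale_near (f : X ⟶ S) (x : X) (W : X.Opens) (hxW : x ∈ W) [Etale (W.ι ≫ f)] :
    (f.stalkMap x).hom.Flat := by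
  have h : ((W.ι ≫ f).stalkMap ⟨x, hxW⟩).hom.Flat := Flat.stalkMap (W.ι ≫ f) ⟨x, hxW⟩
  rw [Scheme.Hom.stalkMap_comp] at h
  exact (FlatLocus.flat_comp_isIso _ _).1 h

/-- An open immersion near a point gives a section through it. -/
theorem exists_section_of_isOpenImmersion (f : X ⟶ S) (x : X) (W : X.Opens) (hx : x ∈ W)
    [IsOpenImmersion (W.ι ≫ f)] :
    ∃ (V : S.Opens) (hV : f.base x ∈ V) (σ : (V : Scheme.{u}) ⟶ X),
      σ ≫ f = V.ι ∧ σ.base ⟨f.base x, hV⟩ = x := by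
  refine ⟨(W.ι ≫ f).opensRange, ⟨⟨x, hx⟩, rfl⟩, (W.ι ≫ f).isoOpensRange.inv ≫ W.ι, ?_, ?_⟩
  · rw [Category.assoc, Scheme.Hom.isoOpensRange_inv_comp]
  · have h : (W.ι ≫ f).isoOpensRange.hom ⟨x, hx⟩ = ⟨f.base x, ⟨⟨x, hx⟩, rfl⟩⟩ := by
      apply (W.ι ≫ f).opensRange.ι.isOpenEmbedding.injective
      rw [← Scheme.Hom.comp_apply, Scheme.Hom.isoOpensRange_hom_ι]
      rfl
    rw [← h]
    show ((W.ι ≫ f).isoOpensRange.inv ≫ W.ι) ((W.ι ≫ f).isoOpensRange.hom ⟨x, hx⟩) = x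
    rw [← Scheme.Hom.comp_apply, Iso.hom_inv_id_assoc]
    rfl

/-- A morphism which is an isomorphism over `U` is an open immersion near a local section. -/
theorem exists_isOpenImmersion_of_section (f : X ⟶ S) (U : S.Opens) (hiso : IsIso (f ∣_ U))
    (hdense : CInt.IsSchematicallyDense (f ⁻¹ᵁ U)) (x : X) (V : S.Opens) (hV : f.base x ∈ V)
    (σ : V.toScheme ⟶ X) (hσ : σ ≫ f = V.ι) (hσx : σ.base ⟨f.base x, hV⟩ = x) :
    ∃ W : X.Opens, x ∈ W ∧ IsOpenImmersion (W.ι ≫ f) := by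
  have hrange : Set.range σ ⊆ Set.range (f ⁻¹ᵁ V).ι := by
    rw [Scheme.Opens.range_ι]
    rintro _ ⟨t, rfl⟩
    show f (σ t) ∈ V
    rw [← Scheme.Hom.comp_apply, hσ]
    exact t.2
  let σ' := IsOpenImmersion.lift (f ⁻¹ᵁ V).ι σ hrange
  have hσ'ι : σ' ≫ (f ⁻¹ᵁ V).ι = σ := IsOpenImmersion.lift_fac _ _ _
  have hσ' : σ' ≫ f ∣_ V = 𝟙 _ := by
    rw [← cancel_mono V.ι, Category.assoc, morphismRestrict_ι, ← Category.assoc, hσ'ι, hσ,
      Category.id_comp]
  let U' : V.toScheme.Opens := V.ι ⁻¹ᵁ U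
  have hiso' : IsIso ((f ∣_ V) ∣_ U') := by
    refine ((MorphismProperty.isomorphisms _).arrow_mk_iso_iff
      (morphismRestrictRestrict f V U')).2 ?_
    have e : U.ι ''ᵁ (U.ι ⁻¹ᵁ V) = V.ι ''ᵁ U' := by
      simp only [U', Scheme.Hom.image_preimage_eq_opensRange_inf, Scheme.Opens.opensRange_ι, inf_comm]
    refine ((MorphismProperty.isomorphisms _).arrow_mk_iso_iff
      ((morphismRestrictRestrict f U (U.ι ⁻¹ᵁ V)) ≪≫ morphismRestrictEq f e)).1 ?_
    haveI := hiso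
    show IsIso ((f ∣_ U) ∣_ (U.ι ⁻¹ᵁ V))
    infer_instance
  have hdense' : CInt.IsSchematicallyDense ((f ∣_ V) ⁻¹ᵁ U') := by
    have e : (f ∣_ V) ⁻¹ᵁ U' = (f ⁻¹ᵁ V).ι ⁻¹ᵁ (f ⁻¹ᵁ U) := by
      simp only [U', ← Scheme.Hom.comp_preimage, morphismRestrict_ι]
    rw [e]
    exact restrict_open _ hdense
  obtain ⟨W₀, hW₀, hoi⟩ := S17727.result (f ∣_ V) U'
    (dense_of_section _ U' hdense' σ' hσ') hiso' hdense' σ' hσ' ⟨f.base x, hV⟩
  haveI := hoi
  let j := W₀.ι ≫ (f ⁻¹ᵁ V).ι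
  refine ⟨j.opensRange, ⟨⟨_, hW₀⟩, ?_⟩, ?_⟩
  · show (f ⁻¹ᵁ V).ι (σ' ⟨f.base x, hV⟩) = x
    rw [← Scheme.Hom.comp_apply, hσ'ι]
    exact hσx
  · have h : j.opensRange.ι ≫ f = j.isoOpensRange.inv ≫ (W₀.ι ≫ f ∣_ V) ≫ V.ι := by
      rw [Category.assoc, morphismRestrict_ι, ← Category.assoc W₀.ι, show W₀.ι ≫ (f ⁻¹ᵁ V).ι = j from rfl,
        ← Category.assoc, Scheme.Hom.isoOpensRange_inv_comp]
    rw [h]
    infer_instance

end Groth.Agent.FlatBirLib
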